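import Groth.Agent.LocPres.GPres
import Mathlib.Algebra.Category.ModuleCat.ChangeOfRings
import Mathlib.RingTheory.RingHom.Flat
import Mathlib.RingTheory.Flat.Basic

/-!
# Quasi-coherent modules for the chaotic topology
-/

set_option autoImplicit false
set_option linter.style.haveILetI false
set_option linter.dupNamespace false

universe u

open CategoryTheory CategoryTheory.Limits Opposite ModSite
open scoped TensorProduct ChangeOfRings

namespace Groth.Agent.QcChaotic

open Groth.Agent.ModFlat (rs map_val_smul map_val_comp map_ring_comp)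
open Groth.Agent.PullFlat
open Groth.Agent.LocPres

variable {C : Type u} [SmallCategory C] {O : Sheaf (⊥ : GrothendieckTopology C) CommRingCat.{u}}

/-- Covering sieves of the chaotic topology contain the identity. -/
theorem mem_id {U : C} {S : Sieve U} (hS : S ∈ (⊥ : GrothendieckTopology C) U) : S (𝟙 U) := by
  rw [GrothendieckTopology.bot_covering] at hS
  exact hS ▸ trivial

theorem rs_id' {F : Mod O} {U : C} (x : sect F U) : rs F (𝟙 U) x = x := rs_id F U x

variable (F : Mod O) {U V : C} (g : U ⟶ V)

/-- The ring of the source, over the ring of the target. -/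
noncomputable abbrev Sc (O : Sheaf (⊥ : GrothendieckTopology C) CommRingCat.{u}) {U V : C} (g : U ⟶ V) : ModuleCat.{u} (O.obj.obj (op V)) :=
  (ModuleCat.restrictScalars (O.obj.map g.op).hom).obj (ModuleCat.of _ (O.obj.obj (op U)))

/-- The base-change map. -/
noncomputable def phi : Sc O g ⊗[O.obj.obj (op V)] sect F V →+ sect F U :=
  ((((ModuleCat.extendRestrictScalarsAdj (O.obj.map g.op).hom).homEquiv
    (F.val.obj (op V) : ModuleCat.{u} (O.obj.obj (op V))) (F.val.obj (op U) : ModuleCat.{u} (O.obj.obj (op U)))).symm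
    (F.val.map g.op)).hom).toAddMonoidHom

theorem isIso_iff_bijective : IsIso (((ModuleCat.extendRestrictScalarsAdj (O.obj.map g.op).hom).homEquiv
    (F.val.obj (op V) : ModuleCat.{u} (O.obj.obj (op V))) (F.val.obj (op U) : ModuleCat.{u} (O.obj.obj (op U)))).symm
    (F.val.map g.op)) ↔ Function.Bijective (phi F g) := by
  unfold phi
  exact ConcreteCategory.isIso_iff_bijective (((ModuleCat.extendRestrictScalarsAdj (O.obj.map g.op).hom).homEquiv
    (F.val.obj (op V) : ModuleCat.{u} (O.obj.obj (op V))) (F.val.obj (op U) : ModuleCat.{u} (O.obj.obj (op U)))).symm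
    (F.val.map g.op))

theorem phi_tmul (r : O.obj.obj (op U)) (x : sect F V) :
    phi F g ((show Sc O g from r) ⊗ₜ[O.obj.obj (op V)] x) = r • rs F g x := rfl

theorem phi_natural {G : Mod O} (α : F ⟶ G) (ξ : Sc O g ⊗[O.obj.obj (op V)] sect F V) :
    phi G g (LinearMap.lTensor (Sc O g) (appS α V) ξ) = appS α U (phi F g ξ) := by
  induction ξ using TensorProduct.induction_on with
  | zero => simp only [map_zero]
  | add a b ha hb => simp only [map_add, ha, hb]
  | tmul r x =>
    rw [LinearMap.lTensor_tmul]
    refine (phi_tmul G g r _).trans ?_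
    refine Eq.trans ?_ (congrArg (appS α U) (phi_tmul F g r x)).symm
    rw [map_smul, appS_res]

/-- The element given by coefficients. -/
noncomputable def sumT {I : Type u} (s : I → sect F V) : (I →₀ O.obj.obj (op U)) →+ Sc O g ⊗[O.obj.obj (op V)] sect F V :=
  Finsupp.liftAddHom fun i =>
    (AddMonoidHom.mk' (fun r => (show Sc O g from r) ⊗ₜ[O.obj.obj (op V)] s i) fun a b => TensorProduct.add_tmul _ _ _)

theorem sumT_single {I : Type u} (s : I → sect F V) (i : I) (r : O.obj.obj (op U)) :
    sumT F g s (Finsupp.single i r) = (show Sc O g from r) ⊗ₜ[O.obj.obj (op V)] s i :=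
  Finsupp.liftAddHom_apply_single _ _ _

theorem phi_sumT {I : Type u} (s : I → sect F V) (c : I →₀ O.obj.obj (op U)) :
    phi F g (sumT F g s c) = combS s g c := by
  induction c using Finsupp.induction_linear with
  | zero => simp only [map_zero]
  | add a b ha hb => simp only [map_add, ha, hb]
  | single i r => rw [sumT_single, combS_single]; rfl

theorem sumT_smul {I : Type u} (s : I → sect F V) (r : O.obj.obj (op U)) (c : I →₀ O.obj.obj (op U))
    (h : sumT F g s c = 0) : sumT F g s (r • c) = 0 := by
  let μ : Sc O g →ₗ[O.obj.obj (op V)] Sc O g :=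
    { toFun := fun a => (show Sc O g from r * (show O.obj.obj (op U) from a))
      map_add' := fun a b => mul_add r a b
      map_smul' := fun v a => mul_left_comm r ((O.obj.map g.op).hom v) (show O.obj.obj (op U) from a) }
  have key : ∀ c : I →₀ O.obj.obj (op U), sumT F g s (r • c) = LinearMap.rTensor (sect F V) μ (sumT F g s c) := by
    intro c
    induction c using Finsupp.induction_linear with
    | zero => simp only [smul_zero, map_zero]
    | add a b ha hb => simp only [smul_add, map_add, ha, hb]
    | single i a =>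
      rw [Finsupp.smul_single, sumT_single, sumT_single, LinearMap.rTensor_tmul]
      rfl
  rw [key, h, map_zero]

theorem sumT_mapRange {I : Type u} (s : I → sect F V) (c : I →₀ O.obj.obj (op V)) :
    sumT F g s (c.mapRange (O.obj.map g.op).hom (map_zero _)) =
      (show Sc O g from (1 : O.obj.obj (op U))) ⊗ₜ[O.obj.obj (op V)] combS s (𝟙 V) c := by
  induction c using Finsupp.induction_linear with
  | zero => simp only [Finsupp.mapRange_zero, map_zero, TensorProduct.tmul_zero]
  | add a b ha hb => rw [Finsupp.mapRange_add (fun x y => map_add _ x y), map_add, map_add, ha, hb, TensorProduct.tmul_add]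
  | single i a =>
    rw [Finsupp.mapRange_single, sumT_single, combS_single, rs_id', ← TensorProduct.smul_tmul]
    exact congrArg (fun z : O.obj.obj (op U) => (show Sc O g from z) ⊗ₜ[O.obj.obj (op V)] s i) (mul_one _).symm

/-- Quasi-coherent modules commute with base change. -/
theorem bijective_of_qc [SheafOfModules.IsQuasicoherent (R := ringSh O) F] : Function.Bijective (phi F g) := by
  obtain ⟨S, hS, hS'⟩ := exists_cover_gPres F V
  obtain ⟨P⟩ := hS' _ (mem_id hS)
  have hgenV : ∀ x : sect F V, ∃ c, combS P.s (𝟙 V) c = x := fun x => by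
    obtain ⟨T, hT, hT'⟩ := P.sgen (𝟙 V) x
    obtain ⟨c, hc⟩ := hT' _ (mem_id hT)
    rw [Category.id_comp, rs_id'] at hc
    exact ⟨c, hc⟩
  have hsurj : ∀ ξ, ∃ c, sumT F g P.s c = ξ := fun ξ => by
    induction ξ using TensorProduct.induction_on with
    | zero => exact ⟨0, map_zero _⟩
    | add a b ha hb =>
      obtain ⟨c, rfl⟩ := ha
      obtain ⟨d, rfl⟩ := hb
      exact ⟨c + d, map_add _ _ _⟩
    | tmul r x =>
      obtain ⟨c, rfl⟩ := hgenV x
      induction c using Finsupp.induction_linear with
      | zero => exact ⟨0, by rw [map_zero, map_zero, TensorProduct.tmul_zero]⟩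
      | add a b ha hb =>
        obtain ⟨ca, hca⟩ := ha
        obtain ⟨cb, hcb⟩ := hb
        exact ⟨ca + cb, by rw [map_add, hca, hcb, map_add, TensorProduct.tmul_add]⟩
      | single i a =>
        refine ⟨Finsupp.single i ((O.obj.map g.op).hom a * (show O.obj.obj (op U) from r)), ?_⟩
        rw [sumT_single, combS_single, rs_id', ← TensorProduct.smul_tmul]
        rfl
  refine ⟨(injective_iff_map_eq_zero _).2 fun ξ hξ => ?_, fun y => ?_⟩
  · obtain ⟨c, rfl⟩ := hsurj ξ
    rw [phi_sumT] at hξ
    obtain ⟨T, hT, hT'⟩ := P.gen g c hξ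
    obtain ⟨d, hd⟩ := hT' _ (mem_id hT)
    rw [Category.id_comp, rs_id'] at hd
    have hz : ∀ k, ∃ c₀ : P.I →₀ O.obj.obj (op V), combS P.t (𝟙 V) c₀ = P.z k ∧ combS P.s (𝟙 V) c₀ = 0 := fun k => by
      obtain ⟨R, hR, hR'⟩ := P.tgen (𝟙 V) (P.z k)
      obtain ⟨c₀, hc₀⟩ := hR' _ (mem_id hR)
      rw [Category.id_comp, rs_id'] at hc₀
      exact ⟨c₀, hc₀, P.vanish (𝟙 V) c₀ k (hc₀.trans (rs_id' (P.z k)).symm)⟩
    choose c₀ hc₀ hc₀' using hz
    let c' : P.I →₀ O.obj.obj (op U) := d.sum fun k r => r • (c₀ k).mapRange (O.obj.map g.op).hom (map_zero _)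
    have e : combS P.t g c' = combS P.t g c := by
      rw [← hd]
      refine (map_finsuppSum (combS P.t g) d _).trans ?_
      refine Eq.trans ?_ (Finsupp.linearCombination_apply _ d).symm
      refine Finsupp.sum_congr fun k _ => ?_
      rw [map_smul, ← hc₀ k, combS_res, Category.comp_id]
    obtain ⟨R, hR, hR'⟩ := P.tindep g (c' - c) (by rw [map_sub, e, sub_self])
    have hcc : c' = c := by
      refine sub_eq_zero.1 (Finsupp.ext fun i => ?_)
      have := hR' _ (mem_id hR) i
      rw [op_id, CategoryTheory.Functor.map_id] at this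
      exact this
    rw [← hcc]
    refine (map_finsuppSum (sumT F g P.s) d _).trans (Finset.sum_eq_zero fun k _ => ?_)
    refine sumT_smul F g P.s _ _ ?_
    rw [sumT_mapRange, hc₀', TensorProduct.tmul_zero]
  · obtain ⟨T, hT, hT'⟩ := P.sgen g y
    obtain ⟨c, hc⟩ := hT' _ (mem_id hT)
    rw [Category.id_comp, rs_id'] at hc
    exact ⟨sumT F g P.s c, (phi_sumT F g P.s c).trans hc⟩

/-- Modules commuting with base change are quasi-coherent. -/
theorem qc_of_bijective (h : ∀ (U V : C) (g : U ⟶ V), Function.Bijective (phi F g)) :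
    SheafOfModules.IsQuasicoherent (R := ringSh O) F := by
  refine isQuasicoherent_of_cover fun W => ⟨⊤, GrothendieckTopology.top_mem _ W, fun V _ _ => ⟨?_⟩⟩
  let s : sect F V → sect F V := fun x => x
  let K : Type u := {c : sect F V →₀ O.obj.obj (op V) // combS s (𝟙 V) c = 0}
  let G : Mod O := (SheafOfModules.free (R := ringSh O) (sect F V) : Mod O)
  let t := freeT O V (sect F V)
  let z : K → sect G V := fun k => combS t (𝟙 V) k.1
  have hz : ∀ {T : C} (a : T ⟶ V) (k : K),
      rs G a (z k) = combS t a (k.1.mapRange (O.obj.map a.op).hom (map_zero _)) := fun a k => by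
    rw [combS_res, Category.comp_id]
  refine ⟨G, sect F V, K, t, s, z, isGen_freeT, isIndep_freeT, fun T a y => ⟨⊤, GrothendieckTopology.top_mem _ T, fun T' b _ => ?_⟩,
    fun T a c k hk => ?_, fun T a c hc => ⟨⊤, GrothendieckTopology.top_mem _ T, fun T' b _ => ?_⟩⟩
  · obtain ⟨ξ, hξ⟩ := (h T' V (b ≫ a)).2 (rs F b y)
    suffices ∀ ξ, ∃ c, combS s (b ≫ a) c = phi F (b ≫ a) ξ by
      obtain ⟨c, hc⟩ := this ξ
      exact ⟨c, hc.trans hξ⟩
    intro ξ
    induction ξ using TensorProduct.induction_on with
    | zero => exact ⟨0, by simp only [map_zero]⟩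
    | add a b ha hb =>
      obtain ⟨c, hc⟩ := ha
      obtain ⟨d, hd⟩ := hb
      exact ⟨c + d, by simp only [map_add, hc, hd]⟩
    | tmul r x => exact ⟨Finsupp.single x (show O.obj.obj (op T') from r), (combS_single s _ x _).trans rfl⟩
  · rw [hz, ← sub_eq_zero, ← map_sub] at hk
    obtain ⟨R, hR, hR'⟩ := isIndep_freeT a _ hk
    have hck : c = k.1.mapRange (O.obj.map a.op).hom (map_zero _) := by
      refine sub_eq_zero.1 (Finsupp.ext fun i => ?_)
      have := hR' _ (mem_id hR) i
      rw [op_id, CategoryTheory.Functor.map_id] at this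
      exact this
    have := congrArg (rs F a) k.2
    rw [combS_res, Category.comp_id, map_zero] at this
    rw [hck]
    exact this
  · let g := b ≫ a
    let c' := c.mapRange (O.obj.map b.op).hom (map_zero _)
    have hc' : sumT F g s c' = 0 := by
      refine (h T' V g).1 ?_
      rw [phi_sumT, map_zero, ← combS_res, hc, map_zero]
    let N : Submodule (O.obj.obj (op T')) (sect F V →₀ O.obj.obj (op T')) :=
      Submodule.span _ (Set.range fun k : K => k.1.mapRange (O.obj.map g.op).hom (map_zero _))
    let Q := (sect F V →₀ O.obj.obj (op T')) ⧸ N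
    let q : (sect F V →₀ O.obj.obj (op T')) →ₗ[O.obj.obj (op T')] Q := N.mkQ
    have hq : ∀ d : sect F V →₀ O.obj.obj (op V), combS s (𝟙 V) d = 0 →
        q (d.mapRange (O.obj.map g.op).hom (map_zero _)) = 0 :=
      fun d hd => (Submodule.Quotient.mk_eq_zero N).2 (Submodule.subset_span ⟨⟨d, hd⟩, rfl⟩)
    have hadd : ∀ x y : sect F V, q (Finsupp.single (x + y) 1) = q (Finsupp.single x 1) + q (Finsupp.single y 1) :=
      fun x y => by
        have := hq (Finsupp.single (x + y) 1 - Finsupp.single x 1 - Finsupp.single y 1) (by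
          simp only [map_sub, combS_single, one_smul, rs_id', s]
          abel)
        rw [Finsupp.mapRange_sub (map_sub _), Finsupp.mapRange_sub (map_sub _), Finsupp.mapRange_single,
          Finsupp.mapRange_single, Finsupp.mapRange_single, map_one, map_sub, map_sub, sub_sub, sub_eq_zero] at this
        exact this
    have hsmul : ∀ (v : O.obj.obj (op V)) (x : sect F V),
        q (Finsupp.single (v • x) 1) = (O.obj.map g.op).hom v • q (Finsupp.single x 1) :=
      fun v x => by
        have := hq (Finsupp.single (v • x) 1 - Finsupp.single x v) (by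
          simp only [map_sub, combS_single, one_smul, rs_id', s]
          abel)
        rw [Finsupp.mapRange_sub (map_sub _), Finsupp.mapRange_single, Finsupp.mapRange_single, map_one, map_sub,
          sub_eq_zero] at this
        rw [this, ← map_smul, Finsupp.smul_single, smul_eq_mul, mul_one]
    let L : Sc O g ⊗[O.obj.obj (op V)] sect F V →+ Q := TensorProduct.liftAddHom
      (AddMonoidHom.mk' (fun r => AddMonoidHom.mk' (fun x => (show O.obj.obj (op T') from r) • q (Finsupp.single x 1))
        fun x y => by rw [hadd, smul_add]) fun r r' => AddMonoidHom.ext fun x => add_smul _ _ _)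
      fun v r x => by
        show ((O.obj.map g.op).hom v * (show O.obj.obj (op T') from r)) • q (Finsupp.single x 1) =
          (show O.obj.obj (op T') from r) • q (Finsupp.single (v • x) 1)
        rw [hsmul, smul_smul, mul_comm]
    have hL : ∀ d, L (sumT F g s d) = q d := fun d => by
      induction d using Finsupp.induction_linear with
      | zero => simp only [map_zero]
      | add a b ha hb => simp only [map_add, ha, hb]
      | single x r =>
        rw [sumT_single]
        show r • q (Finsupp.single x 1) = _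
        rw [← map_smul, Finsupp.smul_single, smul_eq_mul, mul_one]
    have hmem : c' ∈ N := (Submodule.Quotient.mk_eq_zero N).1 ((hL c').symm.trans (by rw [hc', map_zero]))
    obtain ⟨d, hd⟩ := Finsupp.mem_span_range_iff_exists_finsupp.1 hmem
    refine ⟨d, ?_⟩
    rw [combS_res, show combS t (b ≫ a) c' = combS t g (d.sum fun k r => r • k.1.mapRange (O.obj.map g.op).hom (map_zero _)) by
      rw [hd]]
    rw [combS, Finsupp.linearCombination_apply, map_finsuppSum]
    refine Finsupp.sum_congr fun k _ => ?_
    rw [map_smul, ← hz]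

/-- Exactness on sections of epimorphisms. -/
theorem appS_surjective {F G : Mod O} (α : F ⟶ G) [Epi α] (U : C) : Function.Surjective (appS α U) := fun y => by
  obtain ⟨S, hS, hS'⟩ := exists_local_lift α y
  obtain ⟨x, hx⟩ := hS' _ (mem_id hS)
  exact ⟨x, hx.trans (rs_id' y)⟩

section Seq

variable (S : ShortComplex (Mod O)) (hS : S.ShortExact)

include hS in
theorem sect_exact (W : C) : Function.Exact (appS S.f W) (appS S.g W) := fun y =>
  ⟨fun hy => exists_preimage hS y hy, fun ⟨x, hx⟩ => by rw [← hx, ← appS_comp, S.zero]; rfl⟩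

include hS in
theorem rTensor_exact : Function.Exact (LinearMap.lTensor (Sc O g) (appS S.f V)) (LinearMap.lTensor (Sc O g) (appS S.g V)) :=
  haveI := hS.epi_g
  lTensor_exact (Sc O g) (sect_exact S hS V) (appS_surjective S.g V)

include hS in
theorem bijective_X₂ (h₁ : Function.Bijective (phi S.X₁ g)) (h₃ : Function.Bijective (phi S.X₃ g)) :
    Function.Bijective (phi S.X₂ g) := by
  haveI := hS.epi_g
  haveI := hS.mono_f
  refine ⟨(injective_iff_map_eq_zero _).2 fun ξ hξ => ?_, fun y => ?_⟩
  · have h0 : LinearMap.lTensor (Sc O g) (appS S.g V) ξ = 0 := h₃.1 (by rw [phi_natural, hξ, map_zero, map_zero])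
    obtain ⟨η, rfl⟩ := (rTensor_exact g S hS _).1 h0
    rw [phi_natural] at hξ
    rw [h₁.1 ((appS_injective S.f U (hξ.trans (map_zero _).symm)).trans (map_zero _).symm), map_zero]
  · obtain ⟨ζ, hζ⟩ := h₃.2 (appS S.g U y)
    obtain ⟨ξ, rfl⟩ := LinearMap.lTensor_surjective (Sc O g) (appS_surjective S.g V) ζ
    rw [phi_natural] at hζ
    obtain ⟨x, hx⟩ := exists_preimage hS (y - phi S.X₂ g ξ) (by rw [map_sub, hζ, sub_self])
    obtain ⟨η, rfl⟩ := h₁.2 x
    exact ⟨LinearMap.lTensor (Sc O g) (appS S.f V) η + ξ, by rw [map_add, phi_natural, hx, sub_add_cancel]⟩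

end Seq

theorem bijective_cokernel {G : Mod O} (α : F ⟶ G) (hF : Function.Bijective (phi F g)) (hG : Function.Bijective (phi G g)) :
    Function.Bijective (phi (cokernel α) g) := by
  let π := cokernel.π α
  have hex : ∀ W : C, ∀ y : sect G W, appS π W y = 0 → ∃ x, appS α W x = y := fun W y hy => by
    obtain ⟨S, hS, hS'⟩ := exists_local_boundary (ShortComplex.mk α π (cokernel.condition α))
      (ShortComplex.exact_of_g_is_cokernel _ (cokernelIsCokernel α)) (fun _ : Fin 1 => y) (fun _ => hy)
    obtain ⟨x, hx⟩ := hS' _ (mem_id hS)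
    exact ⟨x 0, (hx 0).trans (rs_id' y)⟩
  have hexact : Function.Exact (appS α V) (appS π V) := fun y => ⟨hex V y, fun ⟨x, hx⟩ => by
    rw [← hx, ← appS_comp, cokernel.condition]; rfl⟩
  refine ⟨(injective_iff_map_eq_zero _).2 fun ζ hζ => ?_, fun y => ?_⟩
  · obtain ⟨ξ, rfl⟩ := LinearMap.lTensor_surjective (Sc O g) (appS_surjective π V) ζ
    rw [phi_natural] at hζ
    obtain ⟨x, hx⟩ := hex U _ hζ
    obtain ⟨η, rfl⟩ := hF.2 x
    rw [← phi_natural] at hx
    rw [← hG.1 hx]
    exact (lTensor_exact (Sc O g) hexact (appS_surjective π V) _).2 ⟨η, rfl⟩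
  · obtain ⟨x, rfl⟩ := appS_surjective π U y
    obtain ⟨ξ, rfl⟩ := hG.2 x
    exact ⟨LinearMap.lTensor (Sc O g) (appS π V) ξ, phi_natural G g π ξ⟩

theorem bijective_kernel {G : Mod O} (α : F ⟶ G) (hflat : (O.obj.map g.op).hom.Flat)
    (hF : Function.Bijective (phi F g)) (hG : Function.Bijective (phi G g)) :
    Function.Bijective (phi (kernel α) g) := by
  haveI : Module.Flat (O.obj.obj (op V)) (Sc O g) := hflat
  let ι := kernel.ι α
  have hexact : Function.Exact (appS ι V) (appS α V) := fun y =>
    ⟨exists_kernel_el α y, fun ⟨x, hx⟩ => by rw [← hx, ← appS_comp, kernel.condition]; rfl⟩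
  refine ⟨(injective_iff_map_eq_zero _).2 fun ξ hξ => ?_, fun y => ?_⟩
  · refine Module.Flat.lTensor_preserves_injective_linearMap (M := Sc O g) (appS ι V) (appS_injective ι V) ?_
    refine hF.1 ?_
    rw [phi_natural, hξ, map_zero, map_zero]
    exact (map_zero _).symm
  · obtain ⟨ξ, hξ⟩ := hF.2 (appS ι U y)
    have h0 : LinearMap.lTensor (Sc O g) (appS α V) ξ = 0 := hG.1 (by
      rw [phi_natural, hξ, ← appS_comp, kernel.condition, map_zero]; rfl)
    obtain ⟨η, rfl⟩ := (Module.Flat.lTensor_exact (Sc O g) hexact _).1 h0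
    rw [phi_natural] at hξ
    exact ⟨η, appS_injective ι U hξ⟩

end Groth.Agent.QcChaotic
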